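import Cfsg.Agent.Lib.LocalEvenB.UnitaryFive.Data

/-!
# Arithmetic checks of the table of a subgroup of order 7560 of SU₃(5)

The field with 25 elements is encoded as `a + 5 b` for `a + b√2`; matrices in base 25.
-/

set_option autoImplicit false
set_option maxRecDepth 100000
set_option Elab.async false

namespace CfsgLib.LocalEvenB.UnitaryFive

/-- Addition of encoded scalars. -/
def fadd (x y : Nat) : Nat := (x % 5 + y % 5) % 5 + 5 * ((x / 5 + y / 5) % 5)

/-- Multiplication of encoded scalars. -/
def fmul (x y : Nat) : Nat :=
  (x % 5 * (y % 5) + 2 * (x / 5 * (y / 5))) % 5 + 5 * ((x % 5 * (y / 5) + x / 5 * (y % 5)) % 5)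

/-- The involutive automorphism on encoded scalars. -/
def fconj (x : Nat) : Nat := x % 5 + 5 * (4 * (x / 5) % 5)

/-- An entry of an encoded matrix. -/
def ent (M k : Nat) : Nat := M / 25 ^ k % 25

/-- An entry of a product of encoded matrices. -/
def mulEnt (M g k : Nat) : Nat :=
  fadd (fadd (fmul (ent M (3 * (k / 3))) (ent g (k % 3)))
    (fmul (ent M (3 * (k / 3) + 1)) (ent g (3 + k % 3))))
    (fmul (ent M (3 * (k / 3) + 2)) (ent g (6 + k % 3)))

/-- Encoding of a matrix given entrywise. -/
def pack (f : Nat → Nat) : Nat → Nat
  | 0 => 0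
  | n + 1 => f 0 + 25 * pack (fun k => f (k + 1)) n

/-- The powers of the cube root of unity. -/
def wp (e : Nat) : Nat := [1, 17, 12].getD e 1

/-- An encoded matrix times a cube root of unity. -/
def scale (e M : Nat) : Nat := pack (fun k => fmul (wp e) (ent M k)) 9

/-- `M g` equals the given root of unity times `N`. -/
def okMul (M g e N : Nat) : Bool :=
  (List.range 9).all fun k => mulEnt M g k == fmul (wp e) (ent N k)

/-- Lookup in a chunked table. -/
def look (L : List (List Nat)) (i : Nat) : Nat := (L.getD (i / 60) []).getD (i % 60) 0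

/-- The first generator. -/
def genA : Nat := 253906275

/-- The second generator. -/
def genB : Nat := 1314837003086

/-- The scalar generator. -/
def genZ : Nat := 2594000781267

/-- The checks at one index. -/
def rowOK (i : Nat) : Bool :=
  let M := look keysChunks i
  let a := look nxtAChunks i
  let b := look nxtBChunks i
  decide (M < 25 ^ 9) && decide (a / 3 < 2520) && decide (b / 3 < 2520) &&
    okMul M genA (a % 3) (look keysChunks (a / 3)) &&
    okMul M genB (b % 3) (look keysChunks (b / 3)) &&
    decide (M < scale 1 M) && decide (M < scale 2 M) &&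
    (i == 2519 || decide (M < look keysChunks (i + 1))) &&
    (i == 102 ||
      (let p := look parChunks i
       decide (p / 2 < 2520) && decide (look rankChunks (p / 2) < look rankChunks i) &&
        (if p % 2 = 0 then look nxtAChunks (p / 2) / 3 == i
          else look nxtBChunks (p / 2) / 3 == i)))

/-- The checks on a block of sixty indices. -/
def blockOK (c : Nat) : Bool := (List.range 60).all fun r => rowOK (60 * c + r)

theorem blocks_a : (List.range 14).all blockOK = true := by decide +kernel

theorem blocks_b : ((List.range 14).map (· + 14)).all blockOK = true := by decide +kernel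

theorem blocks_c : ((List.range 14).map (· + 28)).all blockOK = true := by decide +kernel

theorem rowOK_all (i : Nat) (hi : i < 2520) : rowOK i = true := by
  have h : blockOK (i / 60) = true := by
    have hc : i / 60 < 42 := by omega
    rcases (show i / 60 < 14 ∨ (14 ≤ i / 60 ∧ i / 60 < 28) ∨ 28 ≤ i / 60 by omega) with h | h | h
    · exact List.all_eq_true.1 blocks_a _ (List.mem_range.2 h)
    · exact List.all_eq_true.1 blocks_b _
        (List.mem_map.2 ⟨i / 60 - 14, List.mem_range.2 (by omega), by omega⟩)
    · exact List.all_eq_true.1 blocks_c _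
        (List.mem_map.2 ⟨i / 60 - 28, List.mem_range.2 (by omega), by omega⟩)
  have h2 := List.all_eq_true.1 h (i % 60) (List.mem_range.2 (by omega))
  rwa [show 60 * (i / 60) + i % 60 = i by omega] at h2

/-- The orthonormality of the columns, and the determinant. -/
def genOK (g : Nat) : Bool :=
  ((List.range 3).all fun i => (List.range 3).all fun j =>
    fadd (fadd (fmul (ent g i) (fconj (ent g j))) (fmul (ent g (3 + i)) (fconj (ent g (3 + j)))))
      (fmul (ent g (6 + i)) (fconj (ent g (6 + j)))) == if i = j then 1 else 0) &&
  fadd (fadd (fadd (fadd (fadd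
    (fmul (fmul (ent g 0) (ent g 4)) (ent g 8))
    (fmul 4 (fmul (fmul (ent g 0) (ent g 5)) (ent g 7))))
    (fmul 4 (fmul (fmul (ent g 1) (ent g 3)) (ent g 8))))
    (fmul (fmul (ent g 1) (ent g 5)) (ent g 6)))
    (fmul (fmul (ent g 2) (ent g 3)) (ent g 7)))
    (fmul 4 (fmul (fmul (ent g 2) (ent g 4)) (ent g 6))) == 1

theorem gens_ok : genOK genA = true ∧ genOK genB = true ∧ genOK genZ = true := by decide +kernel

theorem root_ok : look keysChunks 102 = pack (fun k => if k % 4 = 0 then 1 else 0) 9 := by
  decide +kernel

end CfsgLib.LocalEvenB.UnitaryFive
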