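import Mathlib
import Cfsg.Agent.Lib.LocalEvenB.UnitaryFive.Check
import Cfsg.Prelude.Def_Classical

/-!
# A subgroup of order 7560 of SU₃(5)
-/

set_option autoImplicit false

namespace CfsgLib.LocalEvenB.UnitaryFive

open Matrix

variable {F : Type*} [Field F]

/-- Decoding of a scalar. -/
def dec (s : F) (x : ℕ) : F := ((x % 5 : ℕ) : F) + ((x / 5 : ℕ) : F) * s

theorem enc_mod (a b : ℕ) (ha : a < 5) : (a + 5 * b) % 5 = a ∧ (a + 5 * b) / 5 = b := by omega

theorem pack_lt : ∀ (n : ℕ) (f : ℕ → ℕ), (∀ k < n, f k < 25) → pack f n < 25 ^ n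
  | 0, _, _ => by simp [pack]
  | n + 1, f, h => by
    have h1 := pack_lt n (fun k => f (k + 1)) (fun k hk => h _ (by omega))
    have h2 := h 0 (by omega)
    rw [pack, pow_succ]
    omega

theorem ent_pack : ∀ (n : ℕ) (f : ℕ → ℕ), (∀ k < n, f k < 25) → ∀ k < n, ent (pack f n) k = f k
  | 0, _, _, k, hk => absurd hk (by omega)
  | n + 1, f, h, k, hk => by
    have h2 := h 0 (by omega)
    rcases k with _ | k
    · simp only [ent, pack, pow_zero, Nat.div_one]
      omega
    · have h1 := ent_pack n (fun j => f (j + 1)) (fun j hj => h _ (by omega)) k (by omega)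
      simp only [ent] at h1 ⊢
      rw [pack, pow_succ', ← Nat.div_div_eq_div_mul,
        show (f 0 + 25 * pack (fun j => f (j + 1)) n) / 25 = pack (fun j => f (j + 1)) n by omega,
        h1]

theorem ent_lt (M k : ℕ) : ent M k < 25 := Nat.mod_lt _ (by norm_num)

theorem fmul_lt (x y : ℕ) : fmul x y < 25 := by unfold fmul; omega

theorem pack_ent_aux : ∀ (n M : ℕ), M < 25 ^ n → pack (fun k => ent M k) n = M
  | 0, M, h => by simp at h; simp [pack, h]
  | n + 1, M, h => by
    have h1 : M / 25 < 25 ^ n := by rw [pow_succ] at h; omega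
    have h2 := pack_ent_aux n (M / 25) h1
    have h3 : (fun k => ent M (k + 1)) = fun k => ent (M / 25) k := by
      funext k
      simp only [ent, pow_succ', Nat.div_div_eq_div_mul]
    rw [pack, h3, h2]
    simp only [ent, pow_zero, Nat.div_one]
    omega

/-- Decoding of a matrix. -/
def toM (s : F) (M : ℕ) : Matrix (Fin 3) (Fin 3) F :=
  Matrix.of fun i j => dec s (ent M (3 * i.val + j.val))

section Five

variable [CharP F 5] {s : F} (hs : s ^ 2 = 2)
include hs

theorem cast_mod (n : ℕ) : ((n % 5 : ℕ) : F) = n := (CharP.cast_eq_mod F 5 n).symm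

theorem dec_fadd (x y : ℕ) : dec s (fadd x y) = dec s x + dec s y := by
  have h := enc_mod ((x % 5 + y % 5) % 5) ((x / 5 + y / 5) % 5) (Nat.mod_lt _ (by norm_num))
  rw [dec, fadd, h.1, h.2, cast_mod hs, cast_mod hs, dec, dec]
  push_cast
  ring

theorem dec_fmul (x y : ℕ) : dec s (fmul x y) = dec s x * dec s y := by
  have h := enc_mod ((x % 5 * (y % 5) + 2 * (x / 5 * (y / 5))) % 5)
    ((x % 5 * (y / 5) + x / 5 * (y % 5)) % 5) (Nat.mod_lt _ (by norm_num))
  rw [dec, fmul, h.1, h.2, cast_mod hs, cast_mod hs, dec, dec]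
  push_cast
  linear_combination -(((x / 5 : ℕ) : F) * ((y / 5 : ℕ) : F)) * hs

theorem dec_fconj (x : ℕ) : dec s (fconj x) = dec s x ^ 5 := by
  have h := enc_mod (x % 5) (4 * (x / 5) % 5) (Nat.mod_lt _ (by norm_num))
  have : Fact (Nat.Prime 5) := ⟨by norm_num⟩
  rw [dec, fconj, h.1, h.2, cast_mod hs (4 * (x / 5)), dec]
  change _ = frobenius F 5 _
  rw [map_add, map_mul, map_natCast, map_natCast, frobenius_def]
  push_cast
  linear_combination -(((x / 5 : ℕ) : F) * s * (s ^ 2 + 2)) * hs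

theorem dec_inj {x y : ℕ} (hx : x < 25) (hy : y < 25) (h : dec s x = dec s y) : x = y := by
  have h1 : (((x % 5 + 5 - y % 5) ^ 2 : ℕ) : F) =
      ((2 * (x / 5 + 5 - y / 5) ^ 2 : ℕ) : F) := by
    push_cast [Nat.cast_sub (show y % 5 ≤ x % 5 + 5 by omega),
      Nat.cast_sub (show y / 5 ≤ x / 5 + 5 by omega)]
    have h5 : (5 : F) = 0 := by simpa using (CharP.cast_eq_zero F 5)
    rw [h5, add_zero, add_zero]
    rw [dec, dec] at h
    have h2 : ((x % 5 : ℕ) : F) - (y % 5 : ℕ) = -(((x / 5 : ℕ) : F) - (y / 5 : ℕ)) * s := by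
      linear_combination h
    rw [h2]
    linear_combination (((x / 5 : ℕ) : F) - (y / 5 : ℕ)) ^ 2 * hs
  rw [CharP.natCast_eq_natCast F 5] at h1
  revert h1
  have key : ∀ a < 25, ∀ b < 25,
      (a % 5 + 5 - b % 5) ^ 2 % 5 = 2 * (a / 5 + 5 - b / 5) ^ 2 % 5 → a = b := by
    decide +kernel
  exact key x hx y hy

theorem dec_wp (e : ℕ) (he : e < 3) : dec s (wp e) = dec s 17 ^ e := by
  interval_cases e
  · simp [wp, dec]
  · simp [wp]
  · rw [sq, ← dec_fmul hs]; rfl

theorem dec_17_pow_three : dec s 17 ^ 3 = 1 := by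
  rw [pow_succ, sq, ← dec_fmul hs, ← dec_fmul hs, show fmul (fmul 17 17) 17 = 1 from rfl]
  simp [dec]

theorem toM_okMul {M g e N : ℕ} (he : e < 3) (h : okMul M g e N = true) :
    toM s M * toM s g = dec s 17 ^ e • toM s N := by
  ext i j
  have hk := List.all_eq_true.1 h (3 * i.val + j.val) (List.mem_range.2 (by omega))
  rw [beq_iff_eq] at hk
  have h2 := congrArg (dec s) hk
  rw [mulEnt, dec_fadd hs, dec_fadd hs, dec_fmul hs, dec_fmul hs, dec_fmul hs, dec_fmul hs,
    dec_wp hs e he, show (3 * i.val + j.val) / 3 = i.val by omega,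
    show (3 * i.val + j.val) % 3 = j.val by omega] at h2
  rw [Matrix.mul_apply, Fin.sum_univ_three, Matrix.smul_apply, smul_eq_mul]
  simpa [toM] using h2

theorem toM_scale (e M : ℕ) (he : e < 3) : toM s (scale e M) = dec s 17 ^ e • toM s M := by
  ext i j
  rw [Matrix.smul_apply, smul_eq_mul, toM, toM, Matrix.of_apply, Matrix.of_apply, scale,
    ent_pack _ _ (fun k _ => fmul_lt _ _) _ (by omega), dec_fmul hs, dec_wp hs e he]

theorem toM_inj {M N : ℕ} (hM : M < 25 ^ 9) (hN : N < 25 ^ 9) (h : toM s M = toM s N) :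
    M = N := by
  have hk : ∀ k < 9, ent M k = ent N k := fun k hk => by
    have h1 := congrFun (congrFun h ⟨k / 3, by omega⟩) ⟨k % 3, by omega⟩
    simp only [toM, Matrix.of_apply] at h1
    rw [show 3 * (k / 3) + k % 3 = k by omega] at h1
    exact dec_inj hs (ent_lt _ _) (ent_lt _ _) h1
  rw [← pack_ent_aux 9 M hM, ← pack_ent_aux 9 N hN]
  simp only [pack, hk 0 (by norm_num), hk 1 (by norm_num), hk 2 (by norm_num), hk 3 (by norm_num),
    hk 4 (by norm_num), hk 5 (by norm_num), hk 6 (by norm_num), hk 7 (by norm_num),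
    hk 8 (by norm_num)]

theorem toM_preserves {g : ℕ} (h : genOK g = true) (u v : Fin 3 → F) :
    Cfsg.hermForm 3 F 5 (toM s g *ᵥ u) (toM s g *ᵥ v) = Cfsg.hermForm 3 F 5 u v := by
  have : Fact (Nat.Prime 5) := ⟨by norm_num⟩
  rw [genOK, Bool.and_eq_true] at h
  have hg : ∀ i j : Fin 3, toM s g 0 i * toM s g 0 j ^ 5 + toM s g 1 i * toM s g 1 j ^ 5 +
      toM s g 2 i * toM s g 2 j ^ 5 = if i = j then 1 else 0 := fun i j => by
    have h1 := List.all_eq_true.1 (List.all_eq_true.1 h.1 i.val (List.mem_range.2 i.isLt)) j.val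
      (List.mem_range.2 j.isLt)
    rw [beq_iff_eq] at h1
    have h2 := congrArg (dec s) h1
    rw [dec_fadd hs, dec_fadd hs, dec_fmul hs, dec_fmul hs, dec_fmul hs, dec_fconj hs,
      dec_fconj hs, dec_fconj hs] at h2
    simp only [toM, Matrix.of_apply, Fin.val_zero, Fin.val_one, Fin.val_two]
    simp only [Nat.mul_zero, zero_add, Nat.mul_one] at h2 ⊢
    rw [h2]
    rcases eq_or_ne i j with rfl | hij
    · simp [dec]
    · rw [if_neg (fun e => hij (Fin.ext e)), if_neg hij]; simp [dec]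
  have g00 := hg 0 0
  have g01 := hg 0 1
  have g02 := hg 0 2
  have g10 := hg 1 0
  have g11 := hg 1 1
  have g12 := hg 1 2
  have g20 := hg 2 0
  have g21 := hg 2 1
  have g22 := hg 2 2
  simp [Fin.ext_iff] at g00 g01 g02 g10 g11 g12 g20 g21 g22
  simp only [Cfsg.hermForm, Fin.sum_univ_three, Matrix.mulVec, dotProduct]
  simp only [add_pow_char, mul_pow]
  linear_combination (u 0 * v 0 ^ 5) * g00 + (u 0 * v 1 ^ 5) * g01 + (u 0 * v 2 ^ 5) * g02 +
    (u 1 * v 0 ^ 5) * g10 + (u 1 * v 1 ^ 5) * g11 + (u 1 * v 2 ^ 5) * g12 +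
    (u 2 * v 0 ^ 5) * g20 + (u 2 * v 1 ^ 5) * g21 + (u 2 * v 2 ^ 5) * g22

theorem toM_det {g : ℕ} (h : genOK g = true) : (toM s g).det = 1 := by
  rw [genOK, Bool.and_eq_true, beq_iff_eq] at h
  have h2 := congrArg (dec s) h.2
  simp only [dec_fadd hs, dec_fmul hs] at h2
  have h4 : dec s 4 = -1 := by
    have h5 : (5 : F) = 0 := by simpa using (CharP.cast_eq_zero F 5)
    simp [dec]
    linear_combination h5
  have h1 : dec s 1 = 1 := by simp [dec]
  rw [h4, h1] at h2
  rw [Matrix.det_fin_three]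
  simp [toM]
  linear_combination h2

end Five

section Table

/-- A key of the table. -/
def key (i : ℕ) : ℕ := look keysChunks i

variable {i : ℕ} (hi : i < 2520)
include hi

theorem key_lt : key i < 25 ^ 9 := by
  have h := rowOK_all i hi
  simp only [rowOK, Bool.and_eq_true, decide_eq_true_eq] at h
  exact h.1.1.1.1.1.1.1.1

theorem key_mul_A : ∃ j < 2520, ∃ e < 3, okMul (key i) genA e (key j) = true := by
  have h := rowOK_all i hi
  simp only [rowOK, Bool.and_eq_true, decide_eq_true_eq] at h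
  exact ⟨_, h.1.1.1.1.1.1.1.2, _, Nat.mod_lt _ (by norm_num), h.1.1.1.1.1.2⟩

theorem key_mul_B : ∃ j < 2520, ∃ e < 3, okMul (key i) genB e (key j) = true := by
  have h := rowOK_all i hi
  simp only [rowOK, Bool.and_eq_true, decide_eq_true_eq] at h
  exact ⟨_, h.1.1.1.1.1.1.2, _, Nat.mod_lt _ (by norm_num), h.1.1.1.1.2⟩

theorem key_lt_scale : key i < scale 1 (key i) ∧ key i < scale 2 (key i) := by
  have h := rowOK_all i hi
  simp only [rowOK, Bool.and_eq_true, decide_eq_true_eq] at h
  exact ⟨h.1.1.1.2, h.1.1.2⟩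

theorem key_step : i ≠ 2519 → key i < key (i + 1) := fun hne => by
  have h := rowOK_all i hi
  simp only [rowOK, Bool.and_eq_true, decide_eq_true_eq, Bool.or_eq_true, beq_iff_eq] at h
  exact h.1.2.resolve_left hne

/-- The rank in the spanning tree. -/
def rnk (i : ℕ) : ℕ := look rankChunks i

theorem key_parent : i = 102 ∨ ∃ p < 2520, rnk p < rnk i ∧
    ∃ e < 3, okMul (key p) genA e (key i) = true ∨ okMul (key p) genB e (key i) = true := by
  have h := rowOK_all i hi
  simp only [rowOK, Bool.and_eq_true, decide_eq_true_eq, Bool.or_eq_true, beq_iff_eq] at h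
  refine h.2.imp id fun ⟨⟨hp, hr⟩, hs⟩ => ⟨_, hp, hr, ?_⟩
  have h' := rowOK_all _ hp
  simp only [rowOK, Bool.and_eq_true, decide_eq_true_eq] at h'
  split_ifs at hs with hm
  · rw [beq_iff_eq] at hs
    refine ⟨look nxtAChunks (look parChunks i / 2) % 3, Nat.mod_lt _ (by norm_num), Or.inl ?_⟩
    have := h'.1.1.1.1.1.2
    rwa [hs] at this
  · rw [beq_iff_eq] at hs
    refine ⟨look nxtBChunks (look parChunks i / 2) % 3, Nat.mod_lt _ (by norm_num), Or.inr ?_⟩
    have := h'.1.1.1.1.2
    rwa [hs] at this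

end Table

theorem key_strictMono : ∀ {i j : ℕ}, i < j → j < 2520 → key i < key j := by
  intro i j hij
  induction j, hij using Nat.le_induction with
  | base => intro hj; exact key_step (by omega) (by omega)
  | succ n hn ih => intro hj; exact (ih (by omega)).trans (key_step (by omega) (by omega))

section Group

variable [CharP F 5] {s : F} (hs : s ^ 2 = 2)
include hs

/-- A checked matrix as an element of the unitary group. -/
def el {g : ℕ} (h : genOK g = true) : Cfsg.SU 3 F 5 :=
  ⟨⟨toM s g, toM_det hs h⟩, fun u v => toM_preserves hs h u v⟩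

/-- The matrix of an element. -/
def mt : Cfsg.SU 3 F 5 →* Matrix (Fin 3) (Fin 3) F :=
  (Cfsg.slToMat 3 F).comp (Cfsg.SU 3 F 5).subtype

omit [CharP F 5] hs in
theorem mt_inj : Function.Injective (mt (F := F)) :=
  fun a b h => Subtype.ext (Subtype.ext h)

theorem toM_genZ : toM s genZ = dec s 17 • (1 : Matrix (Fin 3) (Fin 3) F) := by
  have h0 : dec s 0 = 0 := by simp [dec]
  ext i j
  fin_cases i <;> fin_cases j <;> simp [toM, genZ, ent, h0]

theorem toM_root : toM s (key 102) = (1 : Matrix (Fin 3) (Fin 3) F) := by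
  rw [key, root_ok]
  ext i j
  rw [toM, Matrix.of_apply, ent_pack _ _ (fun k _ => by split_ifs <;> norm_num) _ (by omega)]
  fin_cases i <;> fin_cases j <;> simp [dec]

/-- The three generators. -/
def gens : Set (Cfsg.SU 3 F 5) :=
  {el hs gens_ok.1, el hs gens_ok.2.1, el hs gens_ok.2.2}

/-- The subgroup of order 7560. -/
def grp : Subgroup (Cfsg.SU 3 F 5) := Subgroup.closure (gens hs)

theorem exists_word [Finite F] : ∀ g ∈ grp hs, ∃ i < 2520, ∃ e < 3,
    mt g = dec s 17 ^ e • toM s (key i) := by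
  have hw : ∀ n, dec s 17 ^ n = dec s 17 ^ (n % 3) := fun n =>
    pow_eq_pow_mod n (dec_17_pow_three hs)
  intro g hg
  rw [grp, ← Subgroup.mem_toSubmonoid, Subgroup.closure_toSubmonoid_of_finite] at hg
  induction hg using Submonoid.closure_induction_right with
  | one => exact ⟨102, by norm_num, 0, by norm_num, by rw [map_one, toM_root hs]; simp⟩
  | mul_right x _ y hy ih =>
    obtain ⟨i, hi, e, he, hx⟩ := ih
    rw [map_mul, hx]
    have step : ∀ g' (hg' : genOK g' = true),
        (∃ j < 2520, ∃ f < 3, okMul (key i) g' f (key j) = true) →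
        ∃ j < 2520, ∃ f < 3, (dec s 17 ^ e • toM s (key i)) * mt (el hs hg') =
          dec s 17 ^ f • toM s (key j) := by
      rintro g' hg' ⟨j, hj, f, hf, hok⟩
      refine ⟨j, hj, (e + f) % 3, Nat.mod_lt _ (by norm_num), ?_⟩
      rw [← hw, pow_add, ← smul_smul, ← toM_okMul hs hf hok, Matrix.smul_mul]
      rfl
    rcases hy with rfl | rfl | rfl
    · exact step _ _ (key_mul_A hi)
    · exact step _ _ (key_mul_B hi)
    · refine ⟨i, hi, (e + 1) % 3, Nat.mod_lt _ (by norm_num), ?_⟩
      rw [← hw, pow_succ, ← smul_smul, Matrix.smul_mul]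
      show _ • (toM s (key i) * toM s genZ) = _
      rw [toM_genZ hs, Matrix.mul_smul, mul_one]

theorem mt_el {g : ℕ} (h : genOK g = true) : mt (el hs h) = toM s g := rfl

theorem mt_elZ_pow (e : ℕ) :
    mt (el hs gens_ok.2.2 ^ e) = dec s 17 ^ e • (1 : Matrix (Fin 3) (Fin 3) F) := by
  rw [map_pow, mt_el, toM_genZ hs, smul_pow, one_pow]

theorem mem_gens {g : ℕ} (h : genOK g = true) (hg : g = genA ∨ g = genB ∨ g = genZ) :
    el hs h ∈ grp hs := by
  refine Subgroup.subset_closure ?_
  rcases hg with rfl | rfl | rfl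
  · exact Or.inl rfl
  · exact Or.inr (Or.inl rfl)
  · exact Or.inr (Or.inr rfl)

theorem exists_elem {i : ℕ} (hi : i < 2520) (e : ℕ) :
    ∃ g ∈ grp hs, mt g = dec s 17 ^ e • toM s (key i) := by
  have hZ := mem_gens hs gens_ok.2.2 (Or.inr (Or.inr rfl))
  have main : ∀ r, ∀ i < 2520, rnk i = r → ∃ g ∈ grp hs, mt g = toM s (key i) := by
    intro r
    induction r using Nat.strong_induction_on with
    | _ r ih =>
      intro i hi hr
      rcases key_parent hi with rfl | ⟨p, hp, hpr, f, hf, hok⟩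
      · exact ⟨1, one_mem _, by rw [map_one, toM_root hs]⟩
      · obtain ⟨g, hg, hgm⟩ := ih _ (hr ▸ hpr) p hp rfl
        have fin : ∀ g' (hg' : genOK g' = true), el hs hg' ∈ grp hs →
            okMul (key p) g' f (key i) = true → ∃ x ∈ grp hs, mt x = toM s (key i) := by
          intro g' hg' hmem hok'
          refine ⟨g * el hs hg' * el hs gens_ok.2.2 ^ (3 - f),
            mul_mem (mul_mem hg hmem) (pow_mem hZ _), ?_⟩
          rw [map_mul, map_mul, hgm, mt_el, mt_elZ_pow, toM_okMul hs hf hok', Matrix.smul_mul,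
            Matrix.mul_smul, mul_one, smul_smul, ← pow_add, show f + (3 - f) = 3 by omega,
            dec_17_pow_three hs, one_smul]
        rcases hok with hok | hok
        · exact fin _ _ (mem_gens hs gens_ok.1 (Or.inl rfl)) hok
        · exact fin _ _ (mem_gens hs gens_ok.2.1 (Or.inr (Or.inl rfl))) hok
  obtain ⟨g, hg, hgm⟩ := main _ i hi rfl
  exact ⟨g * el hs gens_ok.2.2 ^ e, mul_mem hg (pow_mem hZ _), by
    rw [map_mul, hgm, mt_elZ_pow, Matrix.mul_smul, mul_one]⟩

theorem eq_of_smul_toM {i j e : ℕ} (hi : i < 2520) (hj : j < 2520) (he : e < 3)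
    (h : toM s (key j) = dec s 17 ^ e • toM s (key i)) : i = j ∧ e = 0 := by
  have hlt : ∀ f M, scale f M < 25 ^ 9 := fun f M => pack_lt _ _ fun k _ => fmul_lt _ _
  rcases Nat.eq_zero_or_pos e with rfl | he0
  · rw [pow_zero, one_smul] at h
    have hk := toM_inj hs (key_lt hj) (key_lt hi) h
    refine ⟨?_, rfl⟩
    rcases lt_trichotomy i j with h' | h' | h'
    · exact absurd hk (key_strictMono h' hj).ne'
    · exact h'
    · exact absurd hk (key_strictMono h' hi).ne
  · exfalso
    have h1 : key j = scale e (key i) :=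
      toM_inj hs (key_lt hj) (hlt _ _) (by rw [h, toM_scale hs _ _ he])
    have h2 : key i = scale (3 - e) (key j) :=
      toM_inj hs (key_lt hi) (hlt _ _) (by
        rw [toM_scale hs _ _ (by omega), h, smul_smul, ← pow_add,
          show 3 - e + e = 3 by omega, dec_17_pow_three hs, one_smul])
    have a := key_lt_scale hi
    have b := key_lt_scale hj
    interval_cases e
    · simp only [show 3 - 1 = 2 from rfl] at h2
      omega
    · simp only [show 3 - 2 = 1 from rfl] at h2
      omega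

theorem card_grp [Finite F] : Nat.card (grp hs) = 7560 := by
  choose g hg hgm using fun p : Fin 2520 × Fin 3 => exists_elem hs p.1.isLt p.2.val
  have hbij : Function.Bijective fun p => (⟨g p, hg p⟩ : grp hs) := by
    constructor
    · rintro ⟨i, e⟩ ⟨j, f⟩ h
      have h1 := congrArg (fun x : grp hs => mt x.1) h
      simp only [hgm] at h1
      have h2 : toM s (key j) = dec s 17 ^ ((e.val + 2 * f.val) % 3) • toM s (key i) := by
        rw [← pow_eq_pow_mod _ (dec_17_pow_three hs), add_comm, pow_add, ← smul_smul, h1,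
          smul_smul, ← pow_add, show 2 * f.val + f.val = 3 * f.val by omega, pow_mul,
          dec_17_pow_three hs, one_pow, one_smul]
      obtain ⟨hij, hef⟩ := eq_of_smul_toM hs i.isLt j.isLt (Nat.mod_lt _ (by norm_num)) h2
      exact Prod.ext (Fin.ext hij) (Fin.ext (by show e.val = f.val; omega))
    · rintro ⟨x, hx⟩
      obtain ⟨i, hi, e, he, h⟩ := exists_word hs x hx
      exact ⟨(⟨i, hi⟩, ⟨e, he⟩), Subtype.ext (mt_inj ((hgm _).trans h.symm))⟩
  rw [← Nat.card_eq_of_bijective _ hbij, Nat.card_prod, Nat.card_fin, Nat.card_fin]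

theorem center_le_grp [Finite F] (hc : Nat.card (Subgroup.center (Cfsg.SU 3 F 5)) = 3) :
    Subgroup.center (Cfsg.SU 3 F 5) ≤ grp hs := by
  have hle : Subgroup.zpowers (el hs gens_ok.2.2) ≤ Subgroup.center (Cfsg.SU 3 F 5) := by
    rw [Subgroup.zpowers_le, Subgroup.mem_center_iff]
    intro x
    refine mt_inj ?_
    rw [map_mul, map_mul, mt_el, toM_genZ hs]
    simp
  have : Fact (Nat.Prime 3) := ⟨by norm_num⟩
  have hord : orderOf (el hs gens_ok.2.2) = 3 := by
    refine orderOf_eq_prime (mt_inj ?_) fun h => ?_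
    · rw [mt_elZ_pow, dec_17_pow_three hs, one_smul, map_one]
    · have h1 := congrArg (fun x => mt x 0 0) h
      simp [mt_el, toM_genZ hs] at h1
      exact absurd (dec_inj hs (x := 17) (y := 1) (by norm_num) (by norm_num) (by rw [h1]; simp [dec]))
        (by norm_num)
  have heq : Subgroup.zpowers (el hs gens_ok.2.2) = Subgroup.center (Cfsg.SU 3 F 5) :=
    Subgroup.eq_of_le_of_card_ge hle (by rw [hc, Nat.card_zpowers, hord])
  rw [← heq, Subgroup.zpowers_le]
  exact mem_gens hs gens_ok.2.2 (Or.inr (Or.inr rfl))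

end Group

/-- A field with 25 elements has characteristic 5 and a square root of 2. -/
theorem exists_sqrt_two [Fintype F] (hF : Fintype.card F = 25) :
    CharP F 5 ∧ ∃ s : F, s ^ 2 = 2 := by
  obtain ⟨p, hp⟩ := CharP.exists F
  obtain ⟨n, hpr, hcard⟩ := FiniteField.card F p
  have hp5 : p = 5 := by
    have h1 : p ∣ 5 ^ 2 := by
      rw [show (5 : ℕ) ^ 2 = Fintype.card F by rw [hF]; norm_num, hcard]
      exact dvd_pow_self p n.ne_zero
    exact (Nat.prime_dvd_prime_iff_eq hpr (by norm_num)).1 (hpr.dvd_of_dvd_pow h1)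
  subst hp5
  refine ⟨hp, ?_⟩
  have h2 : (2 : F) ≠ 0 := by
    intro h
    have := (CharP.cast_eq_zero_iff F 5 2).1 (by exact_mod_cast h)
    omega
  have hr : ringChar F ≠ 2 := by rw [ringChar.eq F 5]; norm_num
  have hsq : IsSquare (2 : F) := by
    rw [FiniteField.isSquare_iff hr h2, hF]
    have : ((4096 : ℕ) : F) = ((1 : ℕ) : F) := by rw [CharP.natCast_eq_natCast F 5]; decide
    norm_num
    exact_mod_cast this
  obtain ⟨s, hs⟩ := hsq
  exact ⟨s, by rw [sq, ← hs]⟩

end CfsgLib.LocalEvenB.UnitaryFive
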