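import Cfsg.Agent.Lib.LocalEvenB.MinIndexSU.ThreeIndex.Main
import Cfsg.Agent.Lib.LocalEvenB.UnitaryFive.Model
import Cfsg.Agent.Lib.Classical.Unitary.MatrixStructure
import Cfsg.Agent.Lib.Classical.Unitary.Two

/-!
# Orders and indices in SU₃(5)
-/

set_option autoImplicit false

namespace CfsgLib.LocalEvenB.UnitaryFive

variable {F : Type*} [Field F] [Fintype F]

/-- A proper subgroup containing the centre has index at least fifty. -/
theorem fifty_le_index (hF : Fintype.card F = 25) (H : Subgroup (Cfsg.SU 3 F 5))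
    (hZ : Subgroup.center (Cfsg.SU 3 F 5) ≤ H) (hH : H ≠ ⊤) : 50 ≤ H.index := by
  have hF2 : Fintype.card F = 5 ^ 2 := hF
  have hσ := CfsgLib.Classical.Herm.card_fixed_powHom hF2
  have hherm := CfsgLib.Classical.Herm.hermStd_isHerm (n := 3) hF2
  obtain ⟨e⟩ : Nonempty (Cfsg.SU 3 F 5 ≃* CfsgLib.Classical.Herm.HSU
      (CfsgLib.Classical.Herm.hermStd 3 hF2)) :=
    ⟨CfsgLib.Classical.Herm.suEquiv 3 hF2⟩
  have hne : H.map e.toMonoidHom ≠ ⊤ := by
    intro h
    apply hH
    have h1 := congrArg (Subgroup.comap e.toMonoidHom) h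
    rwa [Subgroup.comap_map_eq_self_of_injective e.injective, Subgroup.comap_top] at h1
  have hZ' : Subgroup.center (CfsgLib.Classical.Herm.HSU (CfsgLib.Classical.Herm.hermStd 3 hF2)) ≤
      H.map e.toMonoidHom := by
    rw [← CfsgLib.Classical.Herm.map_center_of_equiv e]
    exact Subgroup.map_mono hZ
  have h2 := CfsgLib.LocalEvenB.MinIndexSU.le_index_three hherm
    CfsgLib.Classical.Herm.finrank_std (by rw [hσ]; norm_num) _ hne hZ'
  rw [hσ, Subgroup.index_map_of_bijective (f := e.toMonoidHom) e.bijective] at h2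
  omega

theorem card_center (hF : Fintype.card F = 25) :
    Nat.card (Subgroup.center (Cfsg.SU 3 F 5)) = 3 :=
  CfsgLib.Classical.Herm.card_center_SU (show Fintype.card F = 5 ^ 2 from hF) 3 le_rfl

theorem card_psu (hF : Fintype.card F = 25) : Nat.card (Cfsg.PSU 3 F 5) = 126000 := by
  have hP := CfsgLib.Classical.Herm.card_PSU (show Fintype.card F = 5 ^ 2 from hF) 3 (by norm_num)
  norm_num [Finset.prod_range_succ, Nat.even_iff] at hP
  omega

theorem index_grp [CharP F 5] {s : F} (hs : s ^ 2 = 2) (hF : Fintype.card F = 25) :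
    (grp hs).index = 50 := by
  have h3 := (grp hs).index_mul_card
  have h4 := (Subgroup.center (Cfsg.SU 3 F 5)).card_eq_card_quotient_mul_card_subgroup
  have h5 := card_psu hF
  unfold Cfsg.PSU at h5
  rw [card_grp hs, h4, card_center hF, h5] at h3
  omega

end CfsgLib.LocalEvenB.UnitaryFive
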